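import Groth.Agent.H95.LefFEt.QAff
import Groth.Agent.H95.LefFEt.Bidual
import Groth.Agent.H95.LefFEt.Adjunct
import Groth.Agent.Lib.ExtShTensor
import Groth.Agent.Lib.HensSch.FormalH0
import Groth.Agent.Lib.PuncturedLC.Flat
import Groth.Agent.Lib.EGA75.GrRegular
import Groth.Agent.Lib.EGA75.NormFlatLocal
import Groth.Agent.Lib.TensorMod.LocFree
import Groth.Agent.H78.FSchBridge.Sys
import Groth.Agent.H30.FSch.ComplSec
import Groth.Agent.H30.FSch.ComplHom
import Groth.Prelude.Def_Lef

/-!
# Formal functions on the complement of a closed subset, along a normally flat closed subset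
-/

set_option autoImplicit false
set_option linter.style.haveILetI false
set_option maxHeartbeats 800000

noncomputable section

universe u

open CategoryTheory CategoryTheory.Limits AlgebraicGeometry Opposite TopologicalSpace

attribute [local instance] HasDerivedCategory.standard

namespace Groth.Agent.Lib.LefNFlat

open Groth.Agent.Lib Groth.Agent.H30 Groth.Agent.H78.Formal.Sections


theorem unitToPush_congr {Z X : Scheme.{u}} {f g : Z ⟶ X} (e : f = g) :
    ClSub.unitToPush f ≫ (Scheme.Modules.pushforwardCongr e).hom.app _ = ClSub.unitToPush g := by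
  subst e
  rw [H95.LefFEt.Adjunct.pushforwardCongr_rfl, Category.comp_id]

theorem toSubscheme_quotMap {X : Scheme.{u}} {I K : X.IdealSheafData} (h : I ≤ K) :
    ClSub.toSubscheme I ≫ Lef.quotMap h = ClSub.toSubscheme K := by
  rw [Lef.quotMap, ← Category.assoc, ← Category.assoc, Category.assoc (ClSub.toSubscheme I),
    H95.LefFEt.Adjunct.unitToPush_comp, unitToPush_congr]

/-- The Lefschetz property is invariant under isomorphism. -/
theorem homToFormalBijective_of_iso {X : Scheme.{u}} {𝓘 : X.IdealSheafData} {D D' : X.Modules}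
    (e : D ≅ D') (h : Lef.HomToFormalBijective 𝓘 D') : Lef.HomToFormalBijective 𝓘 D := by
  refine ⟨fun φ ψ hn => (cancel_epi e.inv).1 (h.1 _ _ fun n => ?_), fun y hy => ?_⟩
  · rw [Category.assoc, Category.assoc, hn n]
  · obtain ⟨φ, hφ⟩ := h.2 (fun n => e.inv ≫ y n) fun n => by
      rw [Category.assoc, hy n]
    exact ⟨e.hom ≫ φ, fun n => by rw [Category.assoc, hφ n, Iso.hom_inv_id_assoc]⟩

variable {A : Type u} [CommRing A] [IsNoetherianRing A]

/-- Formal functions are functions as soon as `toHHlim` is bijective in degree zero. -/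
theorem homToFormalBijective_structureModule (J : Ideal A) (V : (Spec (CommRingCat.of A)).Opens)
    (h : Function.Bijective
      (_root_.Formal.toHHlim J (Coh.structureModule (V : Scheme.{u})) 0)) :
    Lef.HomToFormalBijective ((FSch.idealSpec A J).comap V.ι) (Coh.structureModule (V : Scheme.{u})) := by
  let 𝓘 := (FSch.idealSpec A J).comap V.ι
  let p := FSch.completionToX (V : Scheme.{u}) 𝓘
  haveI : ∀ k, IsClosedImmersion (p k) := fun k => inferInstance
  have hI : ∀ k (W : (V : Scheme.{u}).affineOpens), (p k).ker.ideal W = sIdeal J W.1 ^ (k + 1) :=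
    fun k W => by
      rw [ComplSec.ker_completionToX]
      exact congrArg (· ^ (k + 1)) (ComplHom.ideal_idealSpec_comap J W)
  have hqc : (Coh.structureModule (V : Scheme.{u})).IsQuasicoherent :=
    (CurveBundle.Coherent.isCoh (TensorMod.LocFree.of_iso (TensorMod.LocFree.freeModOneIso _)
      (TensorMod.LocFree.of_rank (TensorMod.LocFree.isFinLocFree_freeMod (V : Scheme.{u}) 1)))).1
  have hβ : ∀ n, ∃ β : _root_.Formal.modPow J (n + 1) (Coh.structureModule (V : Scheme.{u})) ≅
      ClSub.quotMod (𝓘 ^ (n + 1)),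
      _root_.Formal.modPowπ J (n + 1) (Coh.structureModule (V : Scheme.{u})) ≫ β.hom =
        ClSub.toSubscheme (𝓘 ^ (n + 1)) := by
    intro n
    obtain ⟨d, hd, hπd⟩ := HLim.exists_iso_modPow p J hI (Coh.structureModule (V : Scheme.{u})) hqc n
    haveI := hd
    refine ⟨asIso d ≪≫ (Scheme.Modules.pushforward (p n)).mapIso (PicLoc.pullbackStructureIso (p n)), ?_⟩
    refine (Category.assoc _ _ _).symm.trans ((congrArg (· ≫ _) hπd).trans ?_)
    exact ((Scheme.Modules.pullbackPushforwardAdjunction (p n)).homEquiv_unit _ _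
      (PicLoc.pullbackStructureIso (p n)).hom).symm.trans (H95.LefFEt.Adjunct.homEquiv_eps (p n))
  choose β hβ using hβ
  have hπ : ∀ n (s : Γ((V : Scheme.{u}), ⊤)), (β n).hom.app ⊤
      ((_root_.Formal.modPowπ J (n + 1) (Coh.structureModule (V : Scheme.{u}))).app ⊤ s) =
      (ClSub.toSubscheme (𝓘 ^ (n + 1))).app ⊤ s := fun n s => congr(($(hβ n)).app ⊤ s)
  refine ⟨fun φ ψ hn => Modules.Free.unitHom_ext ?_, fun y hy => ?_⟩
  · refine sub_eq_zero.1 (HensSch.FormalH0.injective_of_bijective h _ fun n => ?_)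
    rw [map_sub, sub_eq_zero]
    refine ((ConcreteCategory.bijective_of_isIso ((β n).hom.app ⊤)).1) ?_
    rw [hπ, hπ]
    exact congr(($(hn n)).app ⊤ (1 : Γ((V : Scheme.{u}), ⊤)))
  · have htr : ∀ n, _root_.Formal.modPowTrans J (n + 1) (Coh.structureModule (V : Scheme.{u})) ≫ (β n).hom =
        (β (n + 1)).hom ≫ Lef.quotMap (Lef.pow_succ_le 𝓘 n) := fun n => by
      refine coequalizer.hom_ext ?_
      show _root_.Formal.modPowπ J (n + 1 + 1) _ ≫ _ = _root_.Formal.modPowπ J (n + 1 + 1) _ ≫ _
      rw [← Category.assoc, _root_.Formal.modPowπ_trans, hβ, ← Category.assoc, hβ]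
      exact (toSubscheme_quotMap _).symm
    let z : ∀ n, Coh.structureModule (V : Scheme.{u}) ⟶
        _root_.Formal.modPow J (n + 1) (Coh.structureModule (V : Scheme.{u})) := fun n => y n ≫ (β n).inv
    have hz : ∀ n, z (n + 1) ≫ _root_.Formal.modPowTrans J (n + 1) (Coh.structureModule (V : Scheme.{u})) = z n :=
      fun n => by
        rw [← cancel_mono (β n).hom, Category.assoc, htr n]
        simp only [z, Category.assoc, Iso.inv_hom_id_assoc, Iso.inv_hom_id, Category.comp_id]
        exact hy n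
    have happ : ∀ {M N : (V : Scheme.{u}).Modules} (f : Coh.structureModule (V : Scheme.{u}) ⟶ M) (g : M ⟶ N)
        (x : Γ((V : Scheme.{u}), ⊤)), (f ≫ g).app ⊤ x = g.app ⊤ (f.app ⊤ x) := fun f g x => rfl
    obtain ⟨s, hs⟩ := HensSch.FormalH0.surjective_of_bijective h
      (fun n => (z n).app ⊤ (1 : Γ((V : Scheme.{u}), ⊤))) fun n =>
        (happ (z (n + 1)) (_root_.Formal.modPowTrans J (n + 1) (Coh.structureModule (V : Scheme.{u})))
          (1 : Γ((V : Scheme.{u}), ⊤))).symm.trans (by rw [hz n])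
    refine ⟨Modules.Free.unitHom _ s, fun n => ?_⟩
    have e : Modules.Free.unitHom (Coh.structureModule (V : Scheme.{u})) s ≫
        _root_.Formal.modPowπ J (n + 1) (Coh.structureModule (V : Scheme.{u})) = z n :=
      Modules.Free.unitHom_ext (by rw [happ, Modules.Free.unitHom_app_one]; exact hs n)
    rw [← hβ n, ← Category.assoc, e]
    simp only [z, Category.assoc, Iso.inv_hom_id, Category.comp_id]

/-- Depth of a local ring normally flat along an ideal. -/
theorem le_depth_of_normallyFlat (J : Ideal A) (hnf : EGA4.IsNormallyFlat J A) (p : PrimeSpectrum A)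
    (hJ : J ≤ p.asIdeal) (n : ℕ) (h : (n : ℕ∞) ≤ LocCoh.depth (Localization.AtPrime p.asIdeal)
      (Localization.AtPrime p.asIdeal ⧸ J.map (algebraMap A (Localization.AtPrime p.asIdeal)))) :
    (n : ℕ∞) ≤ LocCoh.depth (Localization.AtPrime p.asIdeal) (Localization.AtPrime p.asIdeal) := by
  let L := Localization.AtPrime p.asIdeal
  let J' : Ideal L := J.map (algebraMap A L)
  have hle : J' ≤ IsLocalRing.maximalIdeal L := by
    rw [← Localization.AtPrime.map_eq_maximalIdeal]
    exact Ideal.map_mono hJ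
  have hne : J' ≠ ⊤ := fun e => (IsLocalRing.maximalIdeal.isMaximal L).ne_top (top_unique (e ▸ hle))
  haveI : Nontrivial (L ⧸ J') := Ideal.Quotient.nontrivial_iff.2 hne
  obtain ⟨rs, hl, hmem, hreg⟩ := (Depth.Basic.le_depth_iff (R := L) (M := L ⧸ J') n).1 h
  have hN := EGA75.NormFlatLocal.isNormallyFlat_localized p.asIdeal.primeCompl J A hnf
  have hw := EGA75.GrRegular.isWeaklyRegular_of_isNormallyFlat J' hne
    (LocalizedModule p.asIdeal.primeCompl A) hN rs hreg.toIsWeaklyRegular
  have h' := Depth.Basic.length_le_idealDepth (I := IsLocalRing.maximalIdeal L) hw hmem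
  rw [hl] at h'
  refine le_of_le_of_eq h' (Depth.Basic.depth_congr
    ((LocalizedModule.equivTensorProduct p.asIdeal.primeCompl A).trans
      (TensorProduct.AlgebraTensorModule.rid A L L)))

/-- Formal forms are forms on the complement of `V(a)`. -/
theorem homToFormalBijective (J : Ideal A) [IsAdicComplete J A] (hnf : EGA4.IsNormallyFlat J A) (a : Ideal A)
    (h₁ : ∀ p : PrimeSpectrum A, a ≤ p.asIdeal → J ≤ p.asIdeal → (2 : ℕ∞) ≤
      LocCoh.depth (Localization.AtPrime p.asIdeal)
        (Localization.AtPrime p.asIdeal ⧸ J.map (algebraMap A (Localization.AtPrime p.asIdeal))))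
    (h₂ : ∀ p : PrimeSpectrum A, a ≤ p.asIdeal → ¬ J ≤ p.asIdeal → (2 : ℕ∞) ≤
      LocCoh.depth (Localization.AtPrime p.asIdeal) (Localization.AtPrime p.asIdeal))
    (V : (Spec (CommRingCat.of A)).Opens) (hV : V = PuncturedLC.U a)
    (D : (V : Scheme.{u}).Modules) (hD : FlatMod.IsFinLocFree D) :
    Lef.HomToFormalBijective ((FSch.idealSpec A J).comap V.ι) D := by
  have hall : ∀ p : PrimeSpectrum A, a ≤ p.asIdeal → (2 : ℕ∞) ≤
      LocCoh.depth (Localization.AtPrime p.asIdeal) (Localization.AtPrime p.asIdeal) := fun p hp => by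
    by_cases hJ : J ≤ p.asIdeal
    · exact_mod_cast le_depth_of_normallyFlat J hnf p hJ 2 (by exact_mod_cast h₁ p hp hJ)
    · exact h₂ p hp hJ
  have hO := homToFormalBijective_structureModule J V
    (PuncturedLC.Flat.toHHlim_bijective a J hnf V hV h₁ hall _
      (TensorMod.LocFree.of_iso (TensorMod.LocFree.freeModOneIso _)
        (TensorMod.LocFree.of_rank (TensorMod.LocFree.isFinLocFree_freeMod (V : Scheme.{u}) 1))))
  haveI : IsNoetherianRing (CommRingCat.of A : CommRingCat.{u}) := ‹_›
  haveI : CompactSpace (V : Scheme.{u}) := isCompact_iff_compactSpace.1 (NoetherianSpace.isCompact _)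
  haveI : (V : Scheme.{u}).IsQuasiAffine := Scheme.IsQuasiAffine.of_isImmersion V.ι
  haveI := ExtShTensor.isIso_bidual (Modules.DualBasis.hasDBases_of_isFinLocFree hD)
  exact homToFormalBijective_of_iso (asIso (ExtShTensor.bidual D))
    (H95.LefFEt.QAff.homToFormalBijective (H95.LefFEt.Bidual.isFinLocFree_dual hD) _ hO)

end Groth.Agent.Lib.LefNFlat
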