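import Groth.Agent.Lib.DerivedOX.RestrictRpush
import Groth.Agent.Lib.TensorMod.LocFree
import Groth.Agent.Lib.CurveBundle.Coherent
import Groth.Agent.H78.FSchBridge.Sys
import Groth.Prelude.Def_Formal2
import Groth.Prelude.Def_LefX

/-!
# Direct images of locally free modules on infinitesimal neighbourhoods
-/

set_option autoImplicit false
set_option linter.style.haveILetI false

noncomputable section

universe u

open CategoryTheory CategoryTheory.Limits AlgebraicGeometry TopologicalSpace Opposite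

namespace Groth.Agent.Lib.LefNFlat

open Groth.Agent.H30 Groth.Agent.H78.Formal.Sections

/-- Any two modules on an empty scheme are isomorphic. -/
theorem nonempty_iso_of_isEmpty {Z : Scheme.{u}} [IsEmpty Z] (M N : Z.Modules) : Nonempty (M ≅ N) := by
  have hsub : ∀ (P : Z.Modules) (V : Z.Opens), Subsingleton Γ(P, V) := fun P V => by
    obtain rfl : V = ⊥ := Subsingleton.elim _ _
    exact AddCommGrpCat.subsingleton_of_isZero
      (TopCat.Sheaf.isTerminalOfEmpty (⟨P.presheaf, P.isSheaf⟩ : TopCat.Sheaf Ab Z)).isZero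
  haveI : IsIso (0 : M ⟶ N) := Scheme.Modules.Hom.isIso_iff_isIso_app.2 fun V => by
    haveI := hsub M V
    haveI := hsub N V
    exact (ConcreteCategory.isIso_iff_bijective _).2
      ⟨fun a b _ => Subsingleton.elim _ _, fun b => ⟨0, Subsingleton.elim _ _⟩⟩
  exact ⟨asIso 0⟩

variable {A : Type u} [CommRing A] {X : Scheme.{u}} [X.Over (Spec (CommRingCat.of A))]
  [IsLocallyNoetherian X] {𝔛 : FSch.Sys.{u}}
  (p : ∀ n, 𝔛.X n ⟶ X) [∀ k, IsClosedImmersion (p k)]
  (J : Ideal A) (hI : ∀ k (U : X.affineOpens), (p k).ker.ideal U = sIdeal J U.1 ^ (k + 1))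

include hI in
/-- The direct image of a finite locally free module on a neighbourhood is locally free over the
quotient. -/
theorem isFinLocFreeMod_push (n : ℕ) (F : (𝔛.X n).Modules) (hF : FlatMod.IsFinLocFree F) :
    _root_.Formal2.IsFinLocFreeMod J (n + 1) ((Scheme.Modules.pushforward (p n)).obj F) := by
  intro x
  obtain ⟨W, r, hxW, ⟨i⟩⟩ : ∃ (W : X.Opens) (r : ℕ), x ∈ W ∧
      Nonempty (F.restrict (p n ⁻¹ᵁ W).ι ≅ FlatMod.freeMod (↑(p n ⁻¹ᵁ W)) r) := by
    by_cases hx : x ∈ Set.range (p n).base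
    · obtain ⟨y, rfl⟩ := hx
      obtain ⟨V, r, hyV, hV⟩ := hF y
      obtain ⟨W, hW, hWV⟩ := (p n).isEmbedding.isOpen_iff.1 V.isOpen
      have e : p n ⁻¹ᵁ ⟨W, hW⟩ = V := Opens.ext hWV
      refine ⟨⟨W, hW⟩, r, ?_, ?_⟩
      · rw [← e] at hyV; exact hyV
      · rw [e]; exact hV
    · refine ⟨⟨(Set.range (p n).base)ᶜ, (p n).isClosedEmbedding.isClosed_range.isOpen_compl⟩, 0, hx, ?_⟩
      haveI : IsEmpty (↑(p n ⁻¹ᵁ ⟨(Set.range (p n).base)ᶜ,
          (p n).isClosedEmbedding.isClosed_range.isOpen_compl⟩) : Scheme.{u}) := ⟨fun y => y.2 ⟨y.1, rfl⟩⟩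
      exact nonempty_iso_of_isEmpty _ _
  have hqc : (FlatMod.freeMod X r).IsQuasicoherent :=
    (CurveBundle.Coherent.isCoh (TensorMod.LocFree.of_rank (TensorMod.LocFree.isFinLocFree_freeMod X r))).1
  haveI := HLim.isIso_dd p J hI (FlatMod.freeMod X r) hqc n
  exact ⟨W, r, hxW, ⟨(DerivedOX.RestrictRpush.pushRestrictIso (p n) W).app F ≪≫
    (Scheme.Modules.pushforward (p n ∣_ W)).mapIso
      (i ≪≫ (TensorMod.LocFree.restrictFreeModIso (p n ⁻¹ᵁ W).ι r).symm ≪≫
        (Scheme.Modules.restrictFunctor (p n ⁻¹ᵁ W).ι).mapIso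
          (TensorMod.LocFree.pullbackFreeModIso (p n) r).symm) ≪≫
    ((DerivedOX.RestrictRpush.pushRestrictIso (p n) W).app _).symm ≪≫
    (Scheme.Modules.restrictFunctor W.ι).mapIso (asIso (HLim.dd p J hI (FlatMod.freeMod X r) hqc n)).symm⟩⟩

end Groth.Agent.Lib.LefNFlat
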