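import Groth.Agent.Lib.NFlatAlg.Main
import Groth.Agent.Lib.PrincipalAlg.Bridge
import Groth.Agent.Lib.LefNFlat.Levels

/-!
# Algebraization of locally free systems on a completion along a normally flat closed subset
-/

set_option autoImplicit false
set_option linter.style.haveILetI false
set_option maxHeartbeats 800000

noncomputable section

universe u

open CategoryTheory CategoryTheory.Limits AlgebraicGeometry Opposite TopologicalSpace

attribute [local instance] HasDerivedCategory.standard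

namespace Groth.Agent.Lib.LefNFlat

open Groth.Agent.Lib Groth.Agent.H30 Groth.Agent.H78.FSchBridge Groth.Agent.H78.Formal.Sections

variable {A : Type u} [CommRing A] [IsNoetherianRing A]

theorem exists_completionMod_iso (J : Ideal A) [IsAdicComplete J A] (hnf : EGA4.IsNormallyFlat J A)
    (a : Ideal A) (h1 : Module.Finite A (LocCoh.H a 1 (A ⧸ J)))
    (h2 : Module.Finite A (LocCoh.H a 2 (A ⧸ J)))
    (V : (Spec (CommRingCat.of A)).Opens) (hV : V = PuncturedLC.U a) (𝓘 : (V : Scheme.{u}).IdealSheafData)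
    (h𝓘 : 𝓘 = (FSch.idealSpec A J).comap V.ι)
    (𝔐 : FSch.ModSys (FSch.completionAlong (V : Scheme.{u}) 𝓘)) (hfl : LefX.LevelwiseFinLocFree 𝔐) :
    ∃ F : (V : Scheme.{u}).Modules, Coh.IsCoh F ∧ Nonempty (FSch.completionMod 𝓘 F ≅ 𝔐) := by
  subst hV
  haveI : IsLocallyNoetherian ((PuncturedLC.U a : (Spec (CommRingCat.of A)).Opens) : Scheme.{u}) :=
    inferInstance
  have h𝔛 := Groth.Agent.S3854.result ((PuncturedLC.U a : (Spec (CommRingCat.of A)).Opens) : Scheme.{u}) 𝓘
  let p := FSch.completionToX ((PuncturedLC.U a : (Spec (CommRingCat.of A)).Opens) : Scheme.{u}) 𝓘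
  have hp := FSch.completionToX_comm ((PuncturedLC.U a : (Spec (CommRingCat.of A)).Opens) : Scheme.{u}) 𝓘
  haveI : ∀ k, IsClosedImmersion (p k) := fun k => inferInstance
  have hI : ∀ k (W : ((PuncturedLC.U a : (Spec (CommRingCat.of A)).Opens) : Scheme.{u}).affineOpens),
      (p k).ker.ideal W = sIdeal J W.1 ^ (k + 1) := fun k W => by
    rw [ComplSec.ker_completionToX, h𝓘]
    exact congrArg (· ^ (k + 1)) (ComplHom.ideal_idealSpec_comap J W)
  haveI : ∀ n, IsLocallyNoetherian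
      ((FSch.completionAlong ((PuncturedLC.U a : (Spec (CommRingCat.of A)).Opens) : Scheme.{u}) 𝓘).X n) :=
    fun n => LocallyOfFiniteType.isLocallyNoetherian (p n)
  have hcoh : 𝔐.IsCoh := fun n => CurveBundle.Coherent.isCoh (hfl n)
  let G : ℕᵒᵖ ⥤ ((PuncturedLC.U a : (Spec (CommRingCat.of A)).Opens) : Scheme.{u}).Modules :=
    Functor.ofOpSequence (X := fun n => Sys.G p 𝔐 n) (Sys.T p hp 𝔐)
  have hG : _root_.Formal.IsCohFormal J G := Sys.isCohFormal h𝔛 p hp J hI 𝔐 hcoh
  have hfree : ∀ n : ℕ, _root_.Formal2.IsFinLocFreeMod J (n + 1) (G.obj (op n)) := fun n =>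
    isFinLocFreeMod_push p J hI n (𝔐.F n) (hfl n)
  obtain ⟨e⟩ := H78.Formal.SectTower.nonempty_iso (PuncturedLC.U a) G hG
  obtain ⟨N, hfin, hN, ⟨ψ⟩⟩ := NFlatAlg.exists_finite_model (hG.1 0) (J := J) _ (e.app (op 0)) fun f hf x => by
    have h := H78.Formal.SectTower.killed (PuncturedLC.U a) G hG 0
    refine (Submodule.mem_bot A).1 (h ▸ ?_)
    rw [pow_one]
    exact Submodule.smul_mem_smul hf trivial
  haveI := hfin
  obtain ⟨h0, h1'⟩ := NFlatAlg.finite_HH a h1 h2 N fun q hq => NFlatAlg.exists_data (hfree 0) N hN ψ q hq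
  haveI := h0
  haveI := h1'
  obtain ⟨F, hF, ⟨Φ⟩⟩ := NFlatAlg.exists_algebraization (PuncturedLC.U a) J G hG
    (NFlatAlg.Local.isSplit hnf hG hfree)
    (Module.Finite.equiv (Curves.LES.isoK A ψ 0)) (Module.Finite.equiv (Curves.LES.isoK A ψ 1))
  refine ⟨F, hF, ?_⟩
  rw [PrincipalAlg.Bridge.completionMod_eq]
  exact PrincipalAlg.SysIso.nonempty_iso_pullSys h𝔛 p hp J hI 𝔐 hF Φ

end Groth.Agent.Lib.LefNFlat
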