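import Groth.Agent.Lib.DerivedOX.PullbackStalk
import Groth.Agent.Lib.RefHull.LocFree
import Groth.Agent.Lib.TensorMod.FPCrit
import Groth.Agent.Lib.Cyc.PP.GysPush
import Groth.Agent.H78.FSchBridge.Sys
import Groth.Agent.H95.LefConn
import Groth.Agent.Lib.PrincipalAlg.Bridge
import Groth.Prelude.Def_FSch3
import Groth.Prelude.Def_LefX

/-!
# A module with locally free completion is locally free near the closed subscheme
-/

set_option autoImplicit false
set_option linter.style.haveILetI false
set_option maxHeartbeats 800000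

noncomputable section

universe u

open CategoryTheory CategoryTheory.Limits AlgebraicGeometry TopologicalSpace Opposite
open scoped TensorProduct

namespace Groth.Agent.Lib.LefNFlat

open Groth.Agent.Lib IsLocalRing

/-- A finite module which becomes free modulo arbitrarily small ideals is free. -/
theorem free_of_forall_free_quot {R : Type u} [CommRing R] [IsLocalRing R] [IsNoetherianRing R] (M : Type u)
    [AddCommGroup M] [Module R M] [Module.Finite R M]
    (h : ∀ n : ℕ, ∃ (S : Type u) (_ : CommRing S) (f : R →+* S), Function.Surjective f ∧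
      RingHom.ker f ≤ maximalIdeal R ^ (n + 1) ∧
      (letI := f.toAlgebra; Module.Free S (S ⊗[R] M))) :
    Module.Free R M := by
  classical
  have hgen : ∃ r : ℕ, ∃ φ : (Fin r → R) →ₗ[R] M, Function.Surjective φ := Module.Finite.exists_fin' R M
  let r := Nat.find hgen
  obtain ⟨φ, hφ⟩ : ∃ φ : (Fin r → R) →ₗ[R] M, Function.Surjective φ := Nat.find_spec hgen
  have hinj : Function.Injective φ := by
    rw [injective_iff_map_eq_zero]
    intro c hc
    refine funext fun i => (Submodule.mem_bot R).1 ?_
    rw [← Ideal.iInf_pow_eq_bot_of_isLocalRing (maximalIdeal R) (maximalIdeal.isMaximal R).ne_top, Submodule.mem_iInf]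
    intro n
    rcases Nat.eq_zero_or_pos n with rfl | hn
    · simp
    obtain ⟨n, rfl⟩ := Nat.exists_eq_add_of_le' hn
    obtain ⟨S, _, f, hf, hker, hfree⟩ := h n
    letI := f.toAlgebra
    haveI : Module.Free S (S ⊗[R] M) := hfree
    haveI : Nontrivial S := ⟨⟨1, 0, fun e => by
      have h1 : (1 : R) ∈ RingHom.ker f := by rw [RingHom.mem_ker, map_one, e]
      exact (maximalIdeal.isMaximal R).ne_top ((Ideal.eq_top_iff_one _).2 (Ideal.pow_le_self (Nat.succ_ne_zero n) (hker h1)))⟩⟩
    haveI : Module.Finite S (S ⊗[R] M) := inferInstance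
    -- the images of the generators
    let v : Fin r → S ⊗[R] M := fun k => 1 ⊗ₜ φ (Pi.single k 1)
    let ψ : (Fin r → S) →ₗ[S] (S ⊗[R] M) := Fintype.linearCombination S v
    have hψφ : ∀ d : Fin r → R, ψ (fun k => f (d k)) = 1 ⊗ₜ φ d := fun d => by
      rw [Fintype.linearCombination_apply]
      conv_rhs => rw [show d = ∑ k, d k • (Pi.single k (1 : R) : Fin r → R) from (pi_eq_sum_univ' d).trans rfl,
        map_sum, TensorProduct.tmul_sum]
      refine Finset.sum_congr rfl fun k _ => ?_
      rw [map_smul, TensorProduct.tmul_smul, ← IsScalarTower.algebraMap_smul S (d k) (1 ⊗ₜ[R] φ (Pi.single k 1))]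
      rfl
    have hsurj : Function.Surjective ψ := by
      rw [← LinearMap.range_eq_top, eq_top_iff]
      intro z _
      induction z using TensorProduct.induction_on with
      | zero => exact zero_mem _
      | add a b ha hb => exact add_mem (ha trivial) (hb trivial)
      | tmul s m =>
        obtain ⟨d, rfl⟩ := hφ m
        rw [show s ⊗ₜ[R] φ d = s • ((1 : S) ⊗ₜ[R] φ d) by rw [TensorProduct.smul_tmul', smul_eq_mul, mul_one],
          ← hψφ]
        exact Submodule.smul_mem _ _ (LinearMap.mem_range_self _ _)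
    let e := Module.finBasis S (S ⊗[R] M)
    let q := Module.finrank S (S ⊗[R] M)
    have hrq : r ≤ q := by
      refine Nat.find_min' hgen ?_
      have hlift : ∀ k, ∃ m : M, (1 : S) ⊗ₜ[R] m = e k := fun k => by
        generalize e k = z
        induction z using TensorProduct.induction_on with
        | zero => exact ⟨0, TensorProduct.tmul_zero _ _⟩
        | add a b ha hb =>
          obtain ⟨a', rfl⟩ := ha
          obtain ⟨b', rfl⟩ := hb
          exact ⟨a' + b', TensorProduct.tmul_add _ _ _⟩
        | tmul s m =>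
          obtain ⟨x, rfl⟩ := hf s
          exact ⟨x • m, by rw [← TensorProduct.smul_tmul, Algebra.smul_def, mul_one]; rfl⟩
      choose m hm using hlift
      refine ⟨Fintype.linearCombination R m, LinearMap.range_eq_top.1 (eq_top_iff.2 ?_)⟩
      refine Submodule.le_of_le_smul_of_le_jacobson_bot Module.Finite.fg_top
        (show RingHom.ker f ≤ (⊥ : Ideal R).jacobson by
          rw [IsLocalRing.jacobson_eq_maximalIdeal ⊥ bot_ne_top]
          exact hker.trans (Ideal.pow_le_self (Nat.succ_ne_zero n))) fun x _ => ?_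
      choose a ha using fun k => hf (e.repr ((1 : S) ⊗ₜ[R] x) k)
      let y := Fintype.linearCombination R m a
      have hxy : (1 : S) ⊗ₜ[R] (x - y) = 0 := by
        rw [TensorProduct.tmul_sub, sub_eq_zero]
        conv_lhs => rw [← e.sum_repr ((1 : S) ⊗ₜ[R] x)]
        rw [show y = ∑ k, a k • m k from Fintype.linearCombination_apply R m a, TensorProduct.tmul_sum]
        refine Finset.sum_congr rfl fun k _ => ?_
        rw [TensorProduct.tmul_smul, hm k, ← ha k, ← IsScalarTower.algebraMap_smul S (a k) (e k)]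
        rfl
      rw [← sub_add_cancel x y, add_comm]
      refine Submodule.add_mem_sup (LinearMap.mem_range_self _ _) ?_
      let g : (R ⧸ RingHom.ker f) ≃ₗ[R] S :=
        LinearMap.quotKerEquivOfSurjective (Algebra.linearMap R S) hf
      have h0 : (Ideal.Quotient.mk (RingHom.ker f) 1) ⊗ₜ[R] (x - y) = 0 := by
        refine (LinearEquiv.rTensor M g).injective ?_
        rw [map_zero, LinearEquiv.rTensor_tmul]
        refine Eq.trans ?_ hxy
        exact congrArg (· ⊗ₜ[R] (x - y)) (map_one f)
      have h1 := congrArg (TensorProduct.quotTensorEquivQuotSMul M (RingHom.ker f)) h0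
      rw [map_zero] at h1
      have h2 : Submodule.Quotient.mk ((1 : R) • (x - y)) = (0 : M ⧸ (RingHom.ker f • ⊤ : Submodule R M)) := by
        rw [← TensorProduct.quotTensorEquivQuotSMul_mk_tmul]
        exact h1
      rw [one_smul] at h2
      exact (Submodule.Quotient.mk_eq_zero _).1 h2
    -- a surjective endomorphism of `S ^ r`
    let pr : (Fin q → S) →ₗ[S] (Fin r → S) := LinearMap.funLeft S S (Fin.castLE hrq)
    have hpr : Function.Surjective pr := LinearMap.funLeft_surjective_of_injective _ _ _ (Fin.castLE_injective hrq)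
    let T : (Fin r → S) →ₗ[S] (Fin r → S) := pr ∘ₗ (e.equivFun.toLinearMap ∘ₗ ψ)
    have hT : Function.Surjective T := hpr.comp (e.equivFun.surjective.comp hsurj)
    have hTi : Function.Injective T := OrzechProperty.injective_of_surjective_endomorphism T hT
    have h0 : ψ (fun k => f (c k)) = 0 := by rw [hψφ, hc, TensorProduct.tmul_zero]
    have h1 : (fun k => f (c k)) = 0 := hTi (by
      show pr (e.equivFun (ψ _)) = _
      rw [h0, map_zero, map_zero, map_zero])
    exact hker (congrFun h1 i)
  exact Module.Free.of_equiv (LinearEquiv.ofBijective φ ⟨hinj, hφ⟩)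

variable {A : Type u} [CommRing A] {X : Scheme.{u}} [X.Over (Spec (CommRingCat.of A))] [IsLocallyNoetherian X]

open Groth.Agent.H78.Formal.Sections in
/-- A coherent module whose completion is levelwise locally free has free stalks along the subscheme. -/
theorem free_stalk_of_levels (J : Ideal A) (𝓘 : X.IdealSheafData)
    (hI : ∀ k (W : X.affineOpens), (FSch.completionToX X 𝓘 k).ker.ideal W = sIdeal J W.1 ^ (k + 1))
    {F : X.Modules} (hF : Coh.IsCoh F)
    (hfl : ∀ n, FlatMod.IsFinLocFree ((Scheme.Modules.pullback (FSch.completionToX X 𝓘 n)).obj F))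
    (y : X) (hy : y ∈ 𝓘.support) : Module.Free (X.presheaf.stalk y) (F.presheaf.stalk y) := by
  haveI : IsNoetherianRing (X.presheaf.stalk y) := inferInstance
  haveI := RefHull.LocFree.finite_stalk hF y
  refine free_of_forall_free_quot _ fun n => ?_
  have hr : y ∈ Set.range (FSch.completionToX X 𝓘 n) := by
    show y ∈ Set.range (𝓘 ^ (n + 1)).subschemeι
    rw [H95.LefConn.range_pow]
    exact hy
  obtain ⟨z, rfl⟩ := hr
  haveI : IsClosedImmersion (FSch.completionToX X 𝓘 n) := inferInstance
  refine ⟨_, _, ((FSch.completionToX X 𝓘 n).stalkMap z).hom, (FSch.completionToX X 𝓘 n).stalkMap_surjective z, ?_, ?_⟩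
  · obtain ⟨U, hU, hxU, -⟩ := exists_isAffineOpen_mem_and_subset (X := X)
      (x := FSch.completionToX X 𝓘 n z) (U := ⊤) trivial
    rw [Cyc.PP.GysPush.ker_stalkMap_eq (FSch.completionToX X 𝓘 n) ⟨U, hU⟩ z hxU, hI n ⟨U, hU⟩, Ideal.map_pow]
    refine Ideal.pow_right_mono (IsLocalRing.le_maximalIdeal fun e => ?_) _
    have h1 : RingHom.ker ((FSch.completionToX X 𝓘 n).stalkMap z).hom = ⊤ := by
      rw [Cyc.PP.GysPush.ker_stalkMap_eq (FSch.completionToX X 𝓘 n) ⟨U, hU⟩ z hxU, hI n ⟨U, hU⟩, Ideal.map_pow, e,
        Ideal.top_pow]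
    exact RingHom.ker_ne_top _ h1
  · letI := ((FSch.completionToX X 𝓘 n).stalkMap z).hom.toAlgebra
    haveI : Module.Free (((FSch.completionAlong X 𝓘).X n).presheaf.stalk z)
        ↑((Scheme.Modules.pullback (FSch.completionToX X 𝓘 n) ⋙
          Modules.StalkModule.stalkModFunctor ((FSch.completionAlong X 𝓘).X n) z).obj F) :=
      RefHull.LocFree.free_stalk (hfl n) z
    exact Module.Free.of_equiv
      ((DerivedOX.PullbackStalk.pullbackStalkIso (FSch.completionToX X 𝓘 n) z).app F).toLinearEquiv.symm

omit [X.Over (Spec (CommRingCat.of A))] [IsLocallyNoetherian X] in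
/-- The unit of restriction to an open is invertible on levels inside that open. -/
theorem isIso_pullback_map_unit {Z : Scheme.{u}} (U : X.Opens) (g : Z ⟶ X)
    (hr : Set.range g ⊆ Set.range U.ι) (F : X.Modules) :
    IsIso ((Scheme.Modules.pullback g).map ((Scheme.Modules.restrictAdjunction U.ι).unit.app F)) := by
  haveI : IsIso ((Scheme.Modules.restrictFunctor U.ι).map ((Scheme.Modules.restrictAdjunction U.ι).unit.app F)) := by
    haveI : IsIso ((Scheme.Modules.restrictFunctor U.ι).map ((Scheme.Modules.restrictAdjunction U.ι).unit.app F) ≫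
        (Scheme.Modules.restrictAdjunction U.ι).counit.app ((Scheme.Modules.restrictFunctor U.ι).obj F)) := by
      rw [(Scheme.Modules.restrictAdjunction U.ι).left_triangle_components F]
      exact IsIso.id _
    exact IsIso.of_isIso_comp_right _
      ((Scheme.Modules.restrictAdjunction U.ι).counit.app ((Scheme.Modules.restrictFunctor U.ι).obj F))
  let q := IsOpenImmersion.lift U.ι g hr
  rw [NatIso.isIso_map_iff ((Scheme.Modules.pullbackCongr (IsOpenImmersion.lift_fac U.ι g hr)).symm ≪≫
      (Scheme.Modules.pullbackComp q U.ι).symm ≪≫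
      Functor.isoWhiskerRight (Scheme.Modules.restrictFunctorIsoPullback U.ι).symm (Scheme.Modules.pullback q)),
    Functor.comp_map]
  infer_instance

open Groth.Agent.H78.Formal.Sections in
/-- Levelwise locally free completions come from a locally free module near the subscheme. -/
theorem exists_locFree_nbhd (J : Ideal A) (𝓘 : X.IdealSheafData)
    (hI : ∀ k (W : X.affineOpens), (FSch.completionToX X 𝓘 k).ker.ideal W = sIdeal J W.1 ^ (k + 1))
    {F : X.Modules} (hF : Coh.IsCoh F) (𝔐 : FSch.ModSys (FSch.completionAlong X 𝓘))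
    (hfl : LefX.LevelwiseFinLocFree 𝔐) (Φ : FSch.completionMod 𝓘 F ≅ 𝔐) :
    ∃ (U : X.Opens) (E : (U : Scheme.{u}).Modules), (𝓘.support : Set X) ⊆ (U : Set X) ∧
      FlatMod.IsFinLocFree E ∧
      Nonempty (FSch.completionMod 𝓘 ((Scheme.Modules.pushforward U.ι).obj E) ≅ 𝔐) := by
  have hlev : ∀ n, FlatMod.IsFinLocFree ((Scheme.Modules.pullback (FSch.completionToX X 𝓘 n)).obj F) := fun n =>
    TensorMod.LocFree.of_iso
      ({ hom := Φ.inv.app n, inv := Φ.hom.app n
         hom_inv_id := congrArg (fun ψ : 𝔐 ⟶ 𝔐 => ψ.app n) Φ.inv_hom_id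
         inv_hom_id := congrArg (fun ψ : FSch.completionMod 𝓘 F ⟶ FSch.completionMod 𝓘 F => ψ.app n)
           Φ.hom_inv_id } : 𝔐.F n ≅ (Scheme.Modules.pullback (FSch.completionToX X 𝓘 n)).obj F) (hfl n)
  let U : X.Opens := ⟨{x : X | Module.Free (X.presheaf.stalk x) (F.presheaf.stalk x)}, RefHull.LocFree.isOpen_free hF⟩
  have hsub : (𝓘.support : Set X) ⊆ (U : Set X) := fun y hy => free_stalk_of_levels J 𝓘 hI hF hlev y hy
  haveI := isLocallyNoetherian_of_isOpenImmersion U.ι
  refine ⟨U, F.restrict U.ι, hsub, RefHull.LocFree.isFinLocFree (RefHull.LocFree.isCoh_restrict hF U) fun x => ?_, ?_⟩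
  · haveI : Module.Free (X.presheaf.stalk (U.ι x)) (F.presheaf.stalk (U.ι x)) := x.2
    exact TensorMod.FPCrit.free_stalk_restrict U.ι F x
  have hiso : ∀ n, IsIso ((Scheme.Modules.pullback (FSch.completionToX X 𝓘 n)).map
      ((Scheme.Modules.restrictAdjunction U.ι).unit.app F)) := fun n => by
    refine isIso_pullback_map_unit U _ ?_ F
    rw [Scheme.Opens.range_ι]
    show Set.range (𝓘 ^ (n + 1)).subschemeι ⊆ _
    rw [H95.LefConn.range_pow]
    exact hsub
  let e : H30.ComplSec.pullSys (FSch.completionToX X 𝓘) (FSch.completionToX_comm X 𝓘) F ≅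
      H30.ComplSec.pullSys (FSch.completionToX X 𝓘) (FSch.completionToX_comm X 𝓘)
        ((Scheme.Modules.pushforward U.ι).obj (F.restrict U.ι)) :=
    H78.FSchBridge.Sys.isoOfApp (H30.ComplSec.pullSysMap (FSch.completionToX X 𝓘) (FSch.completionToX_comm X 𝓘)
      ((Scheme.Modules.restrictAdjunction U.ι).unit.app F)) hiso
  exact ⟨eqToIso (PrincipalAlg.Bridge.completionMod_eq X 𝓘 _) ≪≫ e.symm ≪≫
    eqToIso (PrincipalAlg.Bridge.completionMod_eq X 𝓘 F).symm ≪≫ Φ⟩

end Groth.Agent.Lib.LefNFlat
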