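import Groth.Agent.Lib.LefNFlat.Lef
import Groth.Agent.H95.LefConn
import Groth.Agent.H26.DepthExtend
import Groth.Agent.Lib.Ideal.Comap
import Groth.Agent.Lib.PuncturedLC.FormalDepth
import Groth.Agent.Lib.Regular.Serre
import Groth.Agent.Lib.FEt.DepthTwo
import Groth.Agent.Lib.PuncturedLC.FullyFaithful

/-!
# The Lefschetz condition on a punctured spectrum complete along a regular parameter
-/

set_option autoImplicit false
set_option linter.style.haveILetI false
set_option maxHeartbeats 800000

noncomputable section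

universe u

open CategoryTheory CategoryTheory.Limits AlgebraicGeometry Opposite TopologicalSpace

attribute [local instance] HasDerivedCategory.standard

namespace Groth.Agent.Lib.LefNFlat

open Groth.Agent.Lib Groth.Agent.H95.LefConn Groth.Agent.Lib.Modules.Free

section Elementwise

variable {X : Scheme.{u}}

/-- The Lefschetz property of the structure sheaf from the elementwise statement. -/
theorem homToFormalBijective_of_elements (J : X.IdealSheafData)
    (hext : ∀ a b : Γ(X, ⊤), (∀ n : ℕ, (J ^ (n + 1)).subschemeι.appTop a = (J ^ (n + 1)).subschemeι.appTop b) →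
      a = b)
    (hex : ∀ e : ∀ n : ℕ, Γ((J ^ (n + 1)).subscheme, ⊤),
      (∀ n : ℕ, (Scheme.IdealSheafData.inclusion (Lef.pow_succ_le J n)).appTop (e (n + 1)) = e n) →
      ∃ a : Γ(X, ⊤), ∀ n : ℕ, (J ^ (n + 1)).subschemeι.appTop a = e n) :
    Lef.HomToFormalBijective J (Coh.structureModule X) := by
  refine ⟨fun φ ψ h => unitHom_ext (hext _ _ fun n => ?_), fun y hy => ?_⟩
  · exact congr(($(h n)).app ⊤ (1 : Γ(X, ⊤)))
  · obtain ⟨a, ha⟩ := hex (fun n => (y n).app ⊤ (1 : Γ(X, ⊤))) fun n =>
      ((quotMap_app_top _ _).symm).trans (congr(($(hy n)).app ⊤ (1 : Γ(X, ⊤))))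
    refine ⟨unitHom _ a, fun n => unitHom_ext ?_⟩
    show (ClSub.toSubscheme (J ^ (n + 1))).app ⊤ ((unitHom _ a).app ⊤ (1 : Γ(X, ⊤))) = _
    rw [unitHom_app_one, toSubscheme_app_top, ha]

/-- The Lefschetz property of the structure sheaf passes to an open containing the closed subscheme
on which functions agree with those of the ambient scheme. -/
theorem homToFormalBijective_comap (J : X.IdealSheafData)
    (h : Lef.HomToFormalBijective J (Coh.structureModule X)) (W : X.Opens)
    (hW : (J.support : Set X) ⊆ (W : Set X)) (hres : Function.Bijective W.ι.appTop) :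
    Lef.HomToFormalBijective (J.comap W.ι) (Coh.structureModule (W : Scheme.{u})) := by
  have hiso : ∀ n : ℕ, ∃ k : ((J.comap W.ι) ^ (n + 1)).subscheme ≅ (J ^ (n + 1)).subscheme,
      k.hom ≫ (J ^ (n + 1)).subschemeι = ((J.comap W.ι) ^ (n + 1)).subschemeι ≫ W.ι := by
    intro n
    rw [← Ideal.Comap.comap_pow]
    haveI : IsIso (pullback.snd W.ι (J ^ (n + 1)).subschemeι) := by
      refine isIso_of_isOpenImmersion_of_opensRange_eq_top _ (Opens.ext ?_)
      show Set.range (pullback.snd W.ι (J ^ (n + 1)).subschemeι).base = Set.univ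
      erw [IsOpenImmersion.range_pullbackSnd]
      refine Set.eq_univ_of_forall fun z => ?_
      show (J ^ (n + 1)).subschemeι z ∈ Set.range W.ι
      rw [Scheme.Opens.range_ι]
      exact hW (range_pow J n ▸ Set.mem_range_self z)
    refine ⟨(J ^ (n + 1)).comapIso W.ι ≪≫ asIso (pullback.snd W.ι (J ^ (n + 1)).subschemeι), ?_⟩
    rw [Iso.trans_hom, asIso_hom, Category.assoc, ← pullback.condition, ← Category.assoc]
    congr 1
    exact Scheme.IdealSheafData.comapIso_hom_fst _ _
  choose k hk using hiso
  have happ : ∀ n (a : Γ(X, ⊤)), (k n).hom.appTop ((J ^ (n + 1)).subschemeι.appTop a) =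
      ((J.comap W.ι) ^ (n + 1)).subschemeι.appTop (W.ι.appTop a) := fun n a =>
    congr((Scheme.Hom.appTop $(hk n)) a)
  have hbij : ∀ n, Function.Bijective (k n).hom.appTop := fun n => by
    haveI : IsIso (k n).hom.appTop := inferInstanceAs (IsIso (Scheme.Γ.map (k n).hom.op))
    exact ConcreteCategory.bijective_of_isIso (k n).hom.appTop
  have hinj : ∀ n, Function.Injective (k n).hom.appTop := fun n => (hbij n).1
  refine homToFormalBijective_of_elements _ (fun a b hab => ?_) fun e he => ?_
  · obtain ⟨a, rfl⟩ := hres.2 a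
    obtain ⟨b, rfl⟩ := hres.2 b
    refine congrArg _ (fun_ext J h fun n => hinj n ?_)
    rw [happ, happ, hab n]
  · choose e' he' using fun n => (hbij n).2 (e n)
    have hnat : ∀ n, (k n).hom ≫ Scheme.IdealSheafData.inclusion (Lef.pow_succ_le J n) =
        Scheme.IdealSheafData.inclusion (Lef.pow_succ_le (J.comap W.ι) n) ≫ (k (n + 1)).hom := fun n => by
      rw [← cancel_mono (J ^ (n + 1 + 1)).subschemeι, Category.assoc, Category.assoc, hk (n + 1),
        Scheme.IdealSheafData.inclusion_subschemeι, ← Category.assoc,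
        Scheme.IdealSheafData.inclusion_subschemeι, hk n]
    obtain ⟨a, ha⟩ := fun_exists J h e' fun n => hinj n (by
      refine (congr((Scheme.Hom.appTop $(hnat n)) (e' (n + 1)))).trans ?_
      rw [he' n]
      exact (congrArg _ (he' (n + 1))).trans (he n))
    exact ⟨W.ι.appTop a, fun n => by rw [← happ, ha n, he' n]⟩

end Elementwise

section Punctured

variable {R A : Type u} [CommRing R] [IsRegularRing R] [CommRing A] [IsLocalRing A] [IsNoetherianRing A]
  (π : R →+* A) (hπ : Function.Surjective π)

/-- The structure sheaf on an open of an affine scheme as the sheaf of the ring. -/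
def structureIso (U : (Spec (CommRingCat.of A)).Opens) :
    Coh.structureModule (U : Scheme.{u}) ≅ (H78.Formal.SectTower.Θ U).obj (ModuleCat.of A A) :=
  (Scheme.Modules.restrictUnitIso U.ι).symm ≪≫
    (Scheme.Modules.restrictFunctor U.ι).mapIso (tildeSelf (R := CommRingCat.of A)).symm

theorem puncturedSpec_eq : FEt.puncturedSpec A = PuncturedLC.U (IsLocalRing.maximalIdeal A) :=
  Opens.ext (Set.ext fun q => by
    show q ≠ IsLocalRing.closedPoint A ↔ ¬ ((IsLocalRing.maximalIdeal A : Set A) ⊆ (q.asIdeal : Set A))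
    refine not_congr ⟨fun h => by rw [h]; rfl, fun h => ?_⟩
    exact PrimeSpectrum.ext ((IsLocalRing.maximalIdeal.isMaximal A).eq_of_le q.isPrime.ne_top h).symm)

/-- A prime other than the maximal ideal containing no further primes above it but the maximal ideal,
among those containing `t`, has one-dimensional quotient. -/
theorem dim_eq_one_of_minimal (t : A) (ht : t ∈ IsLocalRing.maximalIdeal A) (p : PrimeSpectrum A) (htp : t ∉ p.asIdeal)
    (h : ∀ q : PrimeSpectrum A, p.asIdeal ≤ q.asIdeal → t ∈ q.asIdeal → q.asIdeal = IsLocalRing.maximalIdeal A) :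
    ringKrullDim (A ⧸ p.asIdeal) = 1 := by
  let π := Ideal.Quotient.mk p.asIdeal
  haveI : IsLocalRing (A ⧸ p.asIdeal) := IsLocalRing.of_surjective' _ Ideal.Quotient.mk_surjective
  haveI : IsLocalHom π := IsLocalHom.of_surjective π Ideal.Quotient.mk_surjective
  have hm : π t ∈ IsLocalRing.maximalIdeal (A ⧸ p.asIdeal) := fun hu => ht (isUnit_of_map_unit π t hu)
  have hmin : IsLocalRing.maximalIdeal (A ⧸ p.asIdeal) ∈ (Ideal.span {π t}).minimalPrimes := by
    refine ⟨⟨inferInstance, (Ideal.span_singleton_le_iff_mem _).mpr hm⟩, fun K hK _ => ?_⟩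
    haveI := hK.1
    have e := h ⟨K.comap π, inferInstance⟩ (fun x hx => by
      rw [Ideal.mem_comap, show π x = 0 from Ideal.Quotient.eq_zero_iff_mem.mpr hx]
      exact zero_mem _) (hK.2 (Ideal.mem_span_singleton_self _))
    intro x hx
    obtain ⟨x, rfl⟩ := Ideal.Quotient.mk_surjective x
    have e' : K.comap π = IsLocalRing.maximalIdeal A := e
    have : x ∈ K.comap π := e' ▸ (show x ∈ IsLocalRing.maximalIdeal A from fun hu => hx (hu.map π))
    exact this
  have h1 := Ideal.height_le_one_of_isPrincipal_of_mem_minimalPrimes _ _ hmin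
  have hb : (⊥ : Ideal (A ⧸ p.asIdeal)) < IsLocalRing.maximalIdeal (A ⧸ p.asIdeal) := bot_lt_iff_ne_bot.mpr fun h =>
    htp (Ideal.Quotient.eq_zero_iff_mem.mp (by simpa [h] using hm))
  haveI := Ideal.isPrime_bot (α := A ⧸ p.asIdeal)
  have h2 := Ideal.height_strict_mono_of_isPrime hb
  rw [← IsLocalRing.maximalIdeal_height_eq_ringKrullDim,
    le_antisymm h1 (Order.one_le_iff_pos.mpr (bot_le.trans_lt h2))]
  rfl

include hπ in
/-- Lef on a punctured spectrum. -/
theorem lefCond_punctured (t : A) (ht : t ∈ IsLocalRing.maximalIdeal A) (hreg : IsSMulRegular A t)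
    [IsAdicComplete (Ideal.span {t}) A]
    (hdepth : ∀ p : PrimeSpectrum A, ringKrullDim (A ⧸ p.asIdeal) = 1 →
      (2 : ℕ∞) ≤ LocCoh.depth (Localization.AtPrime p.asIdeal) (Localization.AtPrime p.asIdeal)) :
    Lef.LefCond (FEt.puncturedSpec A : Scheme.{u})
      ((FSch.idealSpec A (Ideal.span {t})).comap (FEt.puncturedSpec A).ι) := by
  let V := FEt.puncturedSpec A
  let m := IsLocalRing.maximalIdeal A
  let J : Ideal A := Ideal.span {t}
  let 𝓘 := (FSch.idealSpec A J).comap V.ι
  haveI : IsNoetherianRing (CommRingCat.of A : CommRingCat.{u}) := ‹_›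
  have hfin : ∀ j ≤ 2, Module.Finite A (LocCoh.H m j A) := by
    refine (LCFin.FinitenessThm.finite_iff π hπ m A 2).2 fun p hp hc => ?_
    obtain ⟨q, hq, hpq⟩ := (LCFin.FinitenessThm.relCodim_eq_one_iff m hp).1 hc
    refine le_of_le_of_eq ?_ (Depth.Basic.depth_congr
      ((LocalizedModule.equivTensorProduct p.asIdeal.primeCompl A).trans
        (TensorProduct.AlgebraTensorModule.rid A (Localization p.asIdeal.primeCompl)
          (Localization p.asIdeal.primeCompl)))).symm
    refine hdepth p ?_
    obtain ⟨s, hsm, hsp⟩ := SetLike.not_le_iff_exists.1 hp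
    refine dim_eq_one_of_minimal s hsm p hsp fun r hr hsr => ?_
    have hrm : r.asIdeal ≤ q.asIdeal := le_trans (IsLocalRing.le_maximalIdeal r.isPrime.ne_top) hq
    have hpr : p < r := lt_of_le_of_ne hr fun e => hsp (e ▸ hsr)
    rcases (show r ≤ q from hrm).eq_or_lt with e | e
    · rw [e]; exact le_antisymm (IsLocalRing.le_maximalIdeal q.isPrime.ne_top) hq
    · exact absurd e (hpq.2 hpr)
  have hV : V = PuncturedLC.U m := puncturedSpec_eq
  have hO : Lef.HomToFormalBijective 𝓘 (Coh.structureModule (V : Scheme.{u})) := by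
    refine homToFormalBijective_structureModule J V ?_
    have hctrl := PuncturedLC.ctrl_of_finite m t A hreg 1 hfin
    refine PuncturedLC.Bridge.toHHlim_bijective (M := A) (structureIso V) J 0 ?_
    rw [hV]
    exact hctrl.formalCohBijective 0 le_rfl
  intro W hW D hD
  haveI : IsLocallyNoetherian (V : Scheme.{u}) := inferInstance
  have hres : Function.Bijective W.ι.appTop := by
    change Function.Bijective (W.ι.app ⊤)
    rw [Scheme.Opens.ι_app]
    have hout : ∀ x : (V : Scheme.{u}), x ∉ W →
        (2 : ℕ∞) ≤ LocCoh.depth ((V : Scheme.{u}).presheaf.stalk x) ((V : Scheme.{u}).presheaf.stalk x) := by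
      intro x hx
      let p : PrimeSpectrum A := V.ι.base x
      have hsupp : ∀ y : (V : Scheme.{u}), t ∈ (V.ι.base y).asIdeal → y ∈ W := fun y hy => hW (by
        show y ∈ (((FSch.idealSpec A J).comap V.ι).support : Set (V : Scheme.{u}))
        rw [Scheme.IdealSheafData.support_comap]
        show V.ι.base y ∈ ((FSch.idealSpec A J).support : Set (Spec (CommRingCat.of A)))
        rw [FSch.idealSpec, Scheme.Hom.support_ker]
        refine subset_closure ?_
        have hle : J ≤ (V.ι.base y).asIdeal := (Ideal.span_singleton_le_iff_mem _).2 hy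
        exact ⟨⟨_, Ideal.map_isPrime_of_surjective Ideal.Quotient.mk_surjective (Ideal.mk_ker.le.trans hle)⟩,
          PrimeSpectrum.ext ((Ideal.comap_map_of_surjective _ Ideal.Quotient.mk_surjective _).trans
            (by rw [← RingHom.ker_eq_comap_bot, Ideal.mk_ker, sup_eq_left.2 hle]))⟩)
      have hd1 : ringKrullDim (A ⧸ p.asIdeal) = 1 :=
        dim_eq_one_of_minimal t ht p (fun h => hx (hsupp x h)) fun q hpq htq => by
          by_contra hne
          have hqV : q ∈ V := fun e => hne (by rw [e]; rfl)
          let y : (V : Scheme.{u}) := ⟨q, hqV⟩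
          have hxy : x ⤳ y := V.ι.isOpenEmbedding.isInducing.specializes_iff.1
            ((PrimeSpectrum.le_iff_specializes p q).1 hpq)
          exact hx (hxy.mem_open W.isOpen (hsupp y htq))
      refine (hdepth p hd1).trans_eq ?_
      exact (FEt.DepthTwo.depth_eq_of_ringEquiv ((asIso (V.ι.stalkMap x)).commRingCatIsoToRingEquiv.symm.trans
        (Spec.stalkIso (CommRingCat.of A) (V.ι.base x)).commRingCatIsoToRingEquiv)).symm
    have gen : ∀ (O : (V : Scheme.{u}).Opens) (i : O ≤ ⊤), O = ⊤ ⊓ W →
        Function.Bijective ((V : Scheme.{u}).presheaf.map (homOfLE i).op) := by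
      intro O i he; subst he
      exact H26.DepthExtend.bijective_restrict W hout ⊤
    refine gen _ _ ?_
    rw [Scheme.Hom.image_preimage_eq_opensRange_inf, Scheme.Opens.opensRange_ι, inf_comm]
  have hOW := homToFormalBijective_comap 𝓘 hO W hW hres
  haveI : NoetherianSpace (V : Scheme.{u}) :=
    (V.ι.isOpenEmbedding.isInducing).noetherianSpace
  haveI : CompactSpace (W : Scheme.{u}) := isCompact_iff_compactSpace.1 (NoetherianSpace.isCompact _)
  haveI : CompactSpace (V : Scheme.{u}) := isCompact_iff_compactSpace.1 (NoetherianSpace.isCompact _)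
  haveI : (V : Scheme.{u}).IsQuasiAffine := Scheme.IsQuasiAffine.of_isImmersion V.ι
  haveI : (W : Scheme.{u}).IsQuasiAffine := Scheme.IsQuasiAffine.of_isImmersion W.ι
  haveI := ExtShTensor.isIso_bidual (Modules.DualBasis.hasDBases_of_isFinLocFree hD)
  exact homToFormalBijective_of_iso (asIso (ExtShTensor.bidual D))
    (H95.LefFEt.QAff.homToFormalBijective (H95.LefFEt.Bidual.isFinLocFree_dual hD) _ hOW)

end Punctured

end Groth.Agent.Lib.LefNFlat
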