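import Groth.Agent.Lib.LefNFlat.Algebraize
import Groth.Agent.Lib.LefNFlat.Lef

/-!
# Lefschetz and algebraization along a normally flat closed subset, depth three
-/

set_option autoImplicit false
set_option linter.style.haveILetI false

noncomputable section

universe u

open CategoryTheory CategoryTheory.Limits AlgebraicGeometry Opposite TopologicalSpace

attribute [local instance] HasDerivedCategory.standard

namespace Groth.Agent.Lib.LefNFlat

open Groth.Agent.Lib

variable {A : Type u} [CommRing A]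

theorem isNormallyFlat_of_pow (J : Ideal A)
    (h : ∀ n : ℕ, Module.Flat (A ⧸ J) (↥(J ^ n) ⧸ (J • (⊤ : Submodule A ↥(J ^ n))))) :
    EGA4.IsNormallyFlat J A := fun n => by
  haveI := h n
  have hP : J ^ n • (⊤ : Submodule A A) = J ^ n := by rw [smul_eq_mul, Ideal.mul_top]
  let e : ↥(J ^ n • (⊤ : Submodule A A)) ≃ₗ[A] ↥(J ^ n) := LinearEquiv.ofEq _ _ hP
  let q : (↥(J ^ n • (⊤ : Submodule A A)) ⧸ (J • (⊤ : Submodule A ↥(J ^ n • (⊤ : Submodule A A))))) ≃ₗ[A]
      (↥(J ^ n) ⧸ (J • (⊤ : Submodule A ↥(J ^ n)))) :=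
    Submodule.Quotient.equiv _ _ e (by rw [Submodule.map_smul'', Submodule.map_top, LinearEquiv.range])
  exact Module.Flat.of_linearEquiv (LinearEquiv.extendScalarsOfSurjective Ideal.Quotient.mk_surjective q)

variable [IsNoetherianRing A]

theorem subsingleton_H_quotient (J a : Ideal A)
    (h : ∀ p : PrimeSpectrum A, a ≤ p.asIdeal → J ≤ p.asIdeal → (3 : ℕ∞) ≤
      LocCoh.depth (Localization.AtPrime p.asIdeal)
        (Localization.AtPrime p.asIdeal ⧸ J.map (algebraMap A (Localization.AtPrime p.asIdeal)))) :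
    ∀ i < 3, Subsingleton (LocCoh.H a i (A ⧸ J)) := by
  refine (Depth.LocalCoh.le_idealDepth_iff_H a (A ⧸ J) 3).1 ?_
  rw [Depth.Local.idealDepth_eq_iInf]
  refine le_iInf₂ fun p hp => ?_
  by_cases hpJ : J ≤ p.asIdeal
  · exact_mod_cast (h p hp hpJ).trans_eq (PuncturedLC.Flat.depth_quot J p).symm
  · rw [PuncturedLC.Components.depth_eq_top fun hs => hpJ
      ((Module.annihilator_le_of_mem_support hs).trans' (Ideal.annihilator_quotient (I := J)).ge)]
    exact le_top

/-- Lefschetz and algebraization on the complement of `V(a)` along a normally flat `V(J)`. -/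
theorem lef_and_algebraization (J : Ideal A) [IsAdicComplete J A] (hnf : EGA4.IsNormallyFlat J A) (a : Ideal A)
    (h₁ : ∀ p : PrimeSpectrum A, a ≤ p.asIdeal → J ≤ p.asIdeal → (3 : ℕ∞) ≤
      LocCoh.depth (Localization.AtPrime p.asIdeal)
        (Localization.AtPrime p.asIdeal ⧸ J.map (algebraMap A (Localization.AtPrime p.asIdeal))))
    (h₂ : ∀ p : PrimeSpectrum A, a ≤ p.asIdeal → ¬ J ≤ p.asIdeal → (3 : ℕ∞) ≤
      LocCoh.depth (Localization.AtPrime p.asIdeal) (Localization.AtPrime p.asIdeal))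
    (V : (Spec (CommRingCat.of A)).Opens) (hV : V = PuncturedLC.U a) :
    (∀ D : (V : Scheme.{u}).Modules, FlatMod.IsFinLocFree D →
      Lef.HomToFormalBijective ((FSch.idealSpec A J).comap V.ι) D) ∧
    (∀ 𝔐 : FSch.ModSys (FSch.completionAlong (V : Scheme.{u}) ((FSch.idealSpec A J).comap V.ι)),
      LefX.LevelwiseFinLocFree 𝔐 → ∃ F : (V : Scheme.{u}).Modules, Coh.IsCoh F ∧
        Nonempty (FSch.completionMod ((FSch.idealSpec A J).comap V.ι) F ≅ 𝔐)) := by
  have h23 : ((2 : ℕ∞)) ≤ 3 := by norm_num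
  refine ⟨fun D hD => homToFormalBijective J hnf a (fun p hp hpJ => h23.trans (h₁ p hp hpJ))
    (fun p hp hpJ => h23.trans (h₂ p hp hpJ)) V hV D hD, fun 𝔐 hfl => ?_⟩
  have hH := subsingleton_H_quotient J a h₁
  have hfin : ∀ i < 3, Module.Finite A (LocCoh.H a i (A ⧸ J)) := fun i hi => by
    haveI := hH i hi
    exact Module.Finite.of_finite
  exact exists_completionMod_iso J hnf a (hfin 1 (by norm_num)) (hfin 2 (by norm_num)) V hV _ rfl 𝔐 hfl

end Groth.Agent.Lib.LefNFlat
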