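import Groth.Agent.Lib.LefNFlat.Algebraize
import Groth.Agent.Lib.LefNFlat.Main
import Groth.Agent.Lib.LefNFlat.LefO
import Groth.Agent.Lib.LefNFlat.FreeNear
import Groth.Agent.S3354

/-!
# The effective Lefschetz condition on a punctured spectrum
-/

set_option autoImplicit false
set_option linter.style.haveILetI false
set_option maxHeartbeats 800000

noncomputable section

universe u

open CategoryTheory CategoryTheory.Limits AlgebraicGeometry Opposite TopologicalSpace

attribute [local instance] HasDerivedCategory.standard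

namespace Groth.Agent.Lib.LefNFlat

open Groth.Agent.Lib

/-- Dividing by a regular element lowers depth three to depth two. -/
theorem two_le_depth_quot {L : Type u} [CommRing L] [IsLocalRing L] [IsNoetherianRing L] (t : L)
    (hreg : IsSMulRegular L t) (h : (3 : ℕ∞) ≤ LocCoh.depth L L) :
    (2 : ℕ∞) ≤ LocCoh.depth L (L ⧸ Ideal.span {t}) := by
  have h3 := (Depth.LocalCoh.le_idealDepth_iff_H (IsLocalRing.maximalIdeal L) L 3).1 h
  have h2 : ((2 : ℕ) : ℕ∞) ≤ LocCoh.idealDepth (IsLocalRing.maximalIdeal L) (QuotSMulTop t L) :=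
    (Depth.LocalCoh.le_idealDepth_iff_H (IsLocalRing.maximalIdeal L) (QuotSMulTop t L) 2).2 fun i hi =>
      Depth.LocalCoh.subsingleton_H_quot (M := ModuleCat.of L L) _ hreg (h3 i (by omega)) (h3 (i + 1) (by omega))
  refine le_of_le_of_eq h2 (Depth.Basic.depth_congr (Submodule.quotEquivOfEq _ _ ?_))
  rw [← Submodule.ideal_span_singleton_smul, smul_eq_mul, Ideal.mul_top]

variable {R A : Type u} [CommRing R] [IsRegularRing R] [CommRing A] [IsLocalRing A] [IsNoetherianRing A]
  (π : R →+* A) (hπ : Function.Surjective π)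

include hπ in
theorem leffCond_punctured (t : A) (ht : t ∈ IsLocalRing.maximalIdeal A) (hreg : IsSMulRegular A t)
    [IsAdicComplete (Ideal.span {t}) A]
    (h2 : ∀ p : PrimeSpectrum A, ringKrullDim (A ⧸ p.asIdeal) = 1 →
      (2 : ℕ∞) ≤ LocCoh.depth (Localization.AtPrime p.asIdeal) (Localization.AtPrime p.asIdeal))
    (h3 : ∀ p : PrimeSpectrum A, t ∈ p.asIdeal → ringKrullDim (A ⧸ p.asIdeal) = 1 →
      (3 : ℕ∞) ≤ LocCoh.depth (Localization.AtPrime p.asIdeal) (Localization.AtPrime p.asIdeal)) :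
    LefX.LeffCond (FEt.puncturedSpec A : Scheme.{u})
      ((FSch.idealSpec A (Ideal.span {t})).comap (FEt.puncturedSpec A).ι) := by
  refine ⟨lefCond_punctured π hπ t ht hreg h2, fun 𝔐 hfl => ?_⟩
  let m := IsLocalRing.maximalIdeal A
  let J : Ideal A := Ideal.span {t}
  have hnf : EGA4.IsNormallyFlat J A := isNormallyFlat_of_pow J fun n => by
    haveI := Groth.Agent.S3354.free_gr t hreg n
    infer_instance
  have hdepth : ∀ x : PrimeSpectrum A, x ∉ PrimeSpectrum.zeroLocus (m : Set A) → J ≤ x.asIdeal →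
      (∃ y : PrimeSpectrum A, y ∈ PrimeSpectrum.zeroLocus (m : Set A) ∧ J ≤ y.asIdeal ∧ x.asIdeal ≤ y.asIdeal ∧
        Formal2.dimBetween A x.asIdeal y.asIdeal = 1) →
      (2 : ℕ∞) ≤ LocCoh.depth (Localization.AtPrime x.asIdeal)
        (Localization.AtPrime x.asIdeal ⧸ J.map (algebraMap A (Localization.AtPrime x.asIdeal))) := by
    rintro x - hxJ ⟨y, hy, -, -, hdim⟩
    have hym : y.asIdeal = m := le_antisymm (IsLocalRing.le_maximalIdeal y.isPrime.ne_top) hy
    let L := Localization.AtPrime y.asIdeal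
    let e : A ≃ₐ[A] L := IsLocalization.atUnits A y.asIdeal.primeCompl
      fun a ha => IsLocalRing.notMem_maximalIdeal.1 fun hm => ha (hym.ge hm)
    have he : (e.toRingEquiv : A →+* L) = algebraMap A L := RingHom.ext fun a => e.commutes a
    have hd1 : ringKrullDim (A ⧸ x.asIdeal) = 1 :=
      (ringKrullDim_eq_of_ringEquiv (Ideal.quotientEquiv x.asIdeal (x.asIdeal.map (algebraMap A L))
        e.toRingEquiv (by rw [he]))).trans hdim
    have ht' : IsSMulRegular (Localization.AtPrime x.asIdeal) (algebraMap A (Localization.AtPrime x.asIdeal) t) :=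
      hreg.of_flat
    rw [Ideal.map_span, Set.image_singleton]
    exact two_le_depth_quot _ ht' (h3 x (hxJ (Ideal.mem_span_singleton_self t)) hd1)
  have hπJ : Function.Surjective ((Ideal.Quotient.mk J).comp π) := Ideal.Quotient.mk_surjective.comp hπ
  obtain ⟨F, hF, ⟨Φ⟩⟩ := exists_completionMod_iso J hnf m
    (NFlatAlg.finite_lc_quotient _ hπJ _ (PrimeSpectrum.isClosed_zeroLocus _) hdepth m rfl 1 (by norm_num))
    (NFlatAlg.finite_lc_quotient _ hπJ _ (PrimeSpectrum.isClosed_zeroLocus _) hdepth m rfl 2 le_rfl)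
    (FEt.puncturedSpec A) puncturedSpec_eq _ rfl 𝔐 hfl
  refine exists_locFree_nbhd J _ (fun k W => ?_) hF 𝔐 hfl Φ
  rw [H30.ComplSec.ker_completionToX]
  exact congrArg (· ^ (k + 1)) (H30.ComplHom.ideal_idealSpec_comap J W)

end Groth.Agent.Lib.LefNFlat
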